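import Groth.Agent.Lib.Hens.Local
import Mathlib

/-! # Algebraic closure of the fraction field of a DVR in a dominating discretely valued field -/

set_option autoImplicit false
universe u

open IsLocalRing

namespace Groth.Agent.MilnorFib6

/-- A domain which is a finite algebra over a henselian local ring is local. -/
theorem isLocalRing_of_finite_domain (A B : Type u) [CommRing A] [HenselianLocalRing A] [CommRing B]
    [IsDomain B] [Algebra A B] [Module.Finite A B] : IsLocalRing B := by
  classical
  haveI : Finite (MaximalSpectrum B) := Hens.finite_maximalSpectrum (A := A) (B := B)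
  have hbij := Hens.bijective_pi_localization_of_henselian (A := A) (B := B)
  have huniq : ∀ M N : MaximalSpectrum B, M = N := by
    intro M N
    by_contra hne
    obtain ⟨x, hx⟩ := hbij.2 (Pi.single M 1)
    obtain ⟨y, hy⟩ := hbij.2 (Pi.single N 1)
    have h0 : x * y = 0 := hbij.1 (by
      rw [map_mul, hx, hy, map_zero]
      funext i
      rcases eq_or_ne i M with rfl | h
      · rw [Pi.mul_apply, Pi.single_eq_of_ne hne, mul_zero, Pi.zero_apply]
      · rw [Pi.mul_apply, Pi.single_eq_of_ne h, zero_mul, Pi.zero_apply])
    rcases mul_eq_zero.1 h0 with h | h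
    · have := congrFun hx M
      rw [h, map_zero, Pi.zero_apply, Pi.single_eq_same] at this
      exact zero_ne_one this
    · have := congrFun hy N
      rw [h, map_zero, Pi.zero_apply, Pi.single_eq_same] at this
      exact zero_ne_one this
  refine IsLocalRing.of_unique_max_ideal ?_
  obtain ⟨M, hM⟩ := Ideal.exists_maximal B
  exact ⟨M, hM, fun N hN => congrArg MaximalSpectrum.asIdeal (huniq ⟨N, hN⟩ ⟨M, hM⟩)⟩

set_option maxHeartbeats 1000000 in
/-- A finite extension of `Frac V` inside a discretely valued field dominating `V` has degree at most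
the valuation of a uniformizer. -/
theorem finrank_le (V : Type u) [CommRing V] [IsDomain V] [IsDiscreteValuationRing V] [HenselianLocalRing V]
    [IsAlgClosed (ResidueField V)] [CharZero V] (F : Type u) [Field F] [Algebra V F]
    [Algebra (FractionRing V) F] [IsScalarTower V (FractionRing V) F] [FiniteDimensional (FractionRing V) F]
    (O : Type u) [CommRing O] [IsDomain O] [IsDiscreteValuationRing O]
    (f : integralClosure V F →+* O) (e : ℕ) (π : V) (hπ : Irreducible π) (p : O) (hp : Irreducible p)
    (v : Oˣ) (he : f (algebraMap V (integralClosure V F) π) = v * p ^ e) (he0 : e ≠ 0) :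
    Module.finrank (FractionRing V) F ≤ e := by
  classical
  let K := FractionRing V
  let W := integralClosure V F
  haveI : CharZero K := charZero_of_injective_algebraMap (IsFractionRing.injective V K)
  haveI : Algebra.IsSeparable K F := inferInstance
  haveI : IsDedekindDomain W := IsIntegralClosure.isDedekindDomain V K F W
  haveI : Module.Finite V W := IsIntegralClosure.finite V K F W
  haveI : IsLocalRing W := isLocalRing_of_finite_domain V W
  have hπnu : ¬ IsUnit (algebraMap V W π) := fun h => by
    have h1 := h.map f
    rw [he, IsUnit.mul_iff] at h1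
    exact hp.not_isUnit ((isUnit_pow_iff he0).1 h1.2)
  have hinjW : Function.Injective (algebraMap V W) := by
    have h : Function.Injective (algebraMap V F) := by
      rw [IsScalarTower.algebraMap_eq V K F]
      exact (algebraMap K F).injective.comp (IsFractionRing.injective V K)
    exact fun x y hxy => h (congrArg Subtype.val hxy)
  have hπ0 : algebraMap V W π ≠ 0 := fun h => hπ.ne_zero (hinjW (h.trans (map_zero _).symm))
  haveI : IsDiscreteValuationRing W :=
    { __ := (inferInstance : IsPrincipalIdealRing W)
      not_a_field' := fun h => by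
        have h1 : algebraMap V W π ∈ maximalIdeal W := hπnu
        rw [h, Ideal.mem_bot] at h1
        exact hπ0 h1 }
  haveI : IsLocalHom (algebraMap V W) := ⟨fun a ha => by
    by_contra hna
    have h1 : a ∈ maximalIdeal V := hna
    rw [hπ.maximalIdeal_eq, Ideal.mem_span_singleton'] at h1
    obtain ⟨c, rfl⟩ := h1
    rw [map_mul, IsUnit.mul_iff] at ha
    exact hπnu ha.2⟩
  obtain ⟨u, hu⟩ := IsDiscreteValuationRing.exists_irreducible W
  obtain ⟨n, w, hnw⟩ := IsDiscreteValuationRing.eq_unit_mul_pow_irreducible hπ0 hu
  have hn0 : n ≠ 0 := fun h => hπnu (by rw [hnw, h, pow_zero, mul_one]; exact w.isUnit)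
  have hfu : p ∣ f u := by
    have hnu : ¬ IsUnit (f u) := fun h => by
      have h1 : IsUnit (f (algebraMap V W π)) := by
        rw [hnw, map_mul, map_pow]
        exact (w.isUnit.map f).mul (h.pow n)
      rw [he, IsUnit.mul_iff] at h1
      exact hp.not_isUnit ((isUnit_pow_iff he0).1 h1.2)
    have : f u ∈ maximalIdeal O := hnu
    rwa [hp.maximalIdeal_eq, Ideal.mem_span_singleton] at this
  have hne : n ≤ e := by
    have h1 : p ^ n ∣ f (algebraMap V W π) := by
      rw [hnw, map_mul, map_pow]
      exact Dvd.dvd.mul_left (pow_dvd_pow_of_dvd hfu n) _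
    rw [he, Units.dvd_mul_left] at h1
    exact (pow_dvd_pow_iff hp.ne_zero hp.not_isUnit).1 h1
  -- `W` is spanned by `u ^ i`, `i < n`
  have hres : ∀ x : W, ∃ (a : V) (y : W), x = algebraMap V W a + u * y := by
    intro x
    haveI : Module.Finite V (ResidueField W) := Module.Finite.trans W _
    haveI : Module.Finite (ResidueField V) (ResidueField W) :=
      Module.Finite.of_restrictScalars_finite V _ _
    haveI : Algebra.IsIntegral (ResidueField V) (ResidueField W) := Algebra.IsIntegral.of_finite _ _
    obtain ⟨b, hb⟩ := (IsAlgClosed.algebraMap_bijective_of_isIntegral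
      (k := ResidueField V) (K := ResidueField W)).2 (residue W x)
    obtain ⟨a, rfl⟩ := residue_surjective b
    have h1 : x - algebraMap V W a ∈ maximalIdeal W := by
      rw [← residue_eq_zero_iff, map_sub, ← hb, sub_eq_zero]
      rfl
    rw [hu.maximalIdeal_eq, Ideal.mem_span_singleton] at h1
    obtain ⟨y, hy⟩ := h1
    exact ⟨a, y, by rw [← hy]; ring⟩
  let N : Submodule V W := Submodule.span V (Set.range fun i : Fin n => u ^ (i : ℕ))
  have hstep : ∀ j ≤ n, ∀ x : W, ∃ s ∈ N, ∃ y : W, x = s + u ^ j * y := by
    intro j
    induction j with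
    | zero => exact fun _ x => ⟨0, zero_mem _, x, by simp⟩
    | succ j ih =>
      intro hj x
      obtain ⟨s, hs, y, rfl⟩ := ih (by omega) x
      obtain ⟨a, y', rfl⟩ := hres y
      refine ⟨s + a • u ^ j, add_mem hs (Submodule.smul_mem _ _ (Submodule.subset_span ⟨⟨j, by omega⟩, rfl⟩)), y', ?_⟩
      rw [Algebra.smul_def]; ring
  have hN : (⊤ : Submodule V W) ≤ N := by
    refine Submodule.le_of_le_smul_of_le_jacobson_bot (I := maximalIdeal V) Module.Finite.fg_top
      (maximalIdeal_le_jacobson _) fun x _ => ?_
    obtain ⟨s, hs, y, rfl⟩ := hstep n le_rfl x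
    refine Submodule.add_mem_sup hs ?_
    have h1 : u ^ n * y = π • ((↑w⁻¹ : W) * y) := by
      rw [Algebra.smul_def, hnw]
      calc u ^ n * y = ((w : W) * (↑w⁻¹ : W)) * (u ^ n * y) := by rw [w.mul_inv, one_mul]
        _ = _ := by ring
    rw [h1]
    exact Submodule.smul_mem_smul (by rw [mem_maximalIdeal]; exact hπ.not_isUnit) Submodule.mem_top
  let g : Fin n → F := fun i => ((u ^ (i : ℕ) : W) : F)
  have hspan : Submodule.span K (Set.range g) = ⊤ := by
    refine Submodule.eq_top_iff'.2 fun x => ?_
    obtain ⟨⟨c, d⟩, hd0, hcd⟩ : ∃ cd : W × V, cd.2 ≠ 0 ∧ x * algebraMap V F cd.2 = cd.1 := by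
      obtain ⟨⟨d, hd⟩, hint⟩ := (IsIntegral.of_finite K x).exists_multiple_integral_of_isLocalization
        (nonZeroDivisors V) x
      exact ⟨(⟨d • x, hint⟩, d), nonZeroDivisors.ne_zero hd,
        by show x * algebraMap V F d = d • x; rw [Algebra.smul_def, mul_comm]⟩
    have h1 : (c : F) ∈ Submodule.span K (Set.range g) := by
      have h2 := Submodule.mem_map_of_mem (f := W.val.toLinearMap) (hN (Submodule.mem_top : c ∈ ⊤))
      rw [Submodule.map_span, ← Set.range_comp] at h2
      exact Submodule.span_le_restrictScalars V K _ h2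
    have h3 := Submodule.smul_mem _ (algebraMap V K d)⁻¹ h1
    rw [Algebra.smul_def, map_inv₀, ← IsScalarTower.algebraMap_apply, ← hcd] at h3
    have hd' : algebraMap V F d ≠ 0 := fun h => hd0 (hinjW (Subtype.ext (h.trans (map_zero _).symm)))
    rwa [mul_comm x, inv_mul_cancel_left₀ hd'] at h3
  calc Module.finrank K F ≤ n := by
        have h := finrank_range_le_card (R := K) g
        rw [Set.finrank, hspan, finrank_top, Fintype.card_fin] at h
        exact h
    _ ≤ e := hne

set_option maxHeartbeats 1000000 in
/-- The algebraic closure of `Frac V` in a field with a discrete valuation dominating `V` is finite. -/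
theorem finiteDimensional_algebraicClosure (V : Type u) [CommRing V] [IsDomain V] [IsDiscreteValuationRing V]
    [HenselianLocalRing V] [IsAlgClosed (ResidueField V)] [CharZero V] (κ : Type u) [Field κ] [Algebra V κ]
    [Algebra (FractionRing V) κ] [IsScalarTower V (FractionRing V) κ]
    (O : ValuationSubring κ) [IsDiscreteValuationRing O] (hVO : ∀ v : V, algebraMap V κ v ∈ O)
    (hdom : ∀ v ∈ maximalIdeal V, O.valuation (algebraMap V κ v) < 1) :
    FiniteDimensional (FractionRing V) (algebraicClosure (FractionRing V) κ) := by
  classical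
  let K := FractionRing V
  obtain ⟨π, hπ⟩ := IsDiscreteValuationRing.exists_irreducible V
  obtain ⟨p, hp⟩ := IsDiscreteValuationRing.exists_irreducible O
  have hπκ : algebraMap V κ π ≠ 0 := by
    rw [IsScalarTower.algebraMap_apply V K κ, ne_eq, map_eq_zero, map_eq_zero_iff _ (IsFractionRing.injective V K)]
    exact hπ.ne_zero
  let πO : O := ⟨algebraMap V κ π, hVO π⟩
  have hπO0 : πO ≠ 0 := fun h => hπκ (congrArg Subtype.val h)
  obtain ⟨e, v, hev⟩ := IsDiscreteValuationRing.eq_unit_mul_pow_irreducible hπO0 hp
  have hmaxV : π ∈ maximalIdeal V := by rw [mem_maximalIdeal]; exact hπ.not_isUnit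
  have he0 : e ≠ 0 := fun h => by
    have h1 : IsUnit πO := by rw [hev, h, pow_zero, mul_one]; exact v.isUnit
    have h2 := (O.valuation_eq_one_iff πO).1 h1
    exact (hdom π hmaxV).ne h2
  have hbound : ∀ x : κ, IsIntegral K x → (minpoly K x).natDegree ≤ e := by
    intro x hx
    let F := IntermediateField.adjoin K ({x} : Set κ)
    haveI : FiniteDimensional K F := IntermediateField.adjoin.finiteDimensional hx
    rw [← IntermediateField.adjoin.finrank hx]
    have hmem : ∀ y : integralClosure V F, ((y : F) : κ) ∈ O := by
      intro y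
      have hy : IsIntegral V ((y : F) : κ) := (y.2 : IsIntegral V (y : F)).map ((F.val).restrictScalars V)
      letI : Algebra V O := ((algebraMap V κ).codRestrict O.toSubring hVO).toAlgebra
      haveI : IsScalarTower V O κ := IsScalarTower.of_algebraMap_eq fun _ => rfl
      obtain ⟨z, hz⟩ := (IsIntegrallyClosed.isIntegral_iff (R := O) (K := κ)).1 hy.tower_top
      rw [← hz]
      exact z.2
    let f : integralClosure V F →+* O :=
      RingHom.codRestrict ((F.val : F →+* κ).comp (integralClosure V F).val.toRingHom) O.toSubring hmem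
    refine finrank_le V F O f e π hπ p hp v ?_ he0
    rw [← hev]
    refine Subtype.ext ?_
    show ((algebraMap V F π : F) : κ) = algebraMap V κ π
    rw [IsScalarTower.algebraMap_apply V K F, IntermediateField.coe_algebraMap_apply,
      ← IsScalarTower.algebraMap_apply]
  haveI : CharZero K := charZero_of_injective_algebraMap (IsFractionRing.injective V K)
  obtain ⟨x, hx, hmaxx⟩ : ∃ x : κ, IsIntegral K x ∧ ∀ y : κ, IsIntegral K y →
      (minpoly K y).natDegree ≤ (minpoly K x).natDegree := by
    let P : ℕ → Prop := fun d => ∃ x : κ, IsIntegral K x ∧ (minpoly K x).natDegree = d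
    have h1 : P (Nat.findGreatest P e) :=
      Nat.findGreatest_spec (hbound 1 isIntegral_one) ⟨1, isIntegral_one, rfl⟩
    obtain ⟨x, hx, hxd⟩ := h1
    exact ⟨x, hx, fun y hy => hxd ▸ Nat.le_findGreatest (hbound y hy) ⟨y, hy, rfl⟩⟩
  have hle : algebraicClosure K κ ≤ IntermediateField.adjoin K ({x} : Set κ) := by
    intro y hy
    rw [mem_algebraicClosure_iff'] at hy
    let M := IntermediateField.adjoin K ({x, y} : Set κ)
    haveI : FiniteDimensional K M := by
      haveI : Finite ({x, y} : Set κ) := (Set.toFinite _).to_subtype
      exact IntermediateField.finiteDimensional_adjoin fun z hz => by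
        rcases hz with rfl | rfl <;> assumption
    obtain ⟨z, hz⟩ := Field.exists_primitive_element K M
    have hz' : IsIntegral K (z : κ) := (IsIntegral.of_finite K z).map M.val
    have h1 : Module.finrank K M ≤ Module.finrank K (IntermediateField.adjoin K ({x} : Set κ)) := by
      rw [IntermediateField.adjoin.finrank hx]
      have h2 : Module.finrank K M = (minpoly K (z : κ)).natDegree := by
        rw [show minpoly K (z : κ) = minpoly K z from minpoly.algHom_eq M.val Subtype.val_injective z]
        exact ((Field.primitive_element_iff_minpoly_natDegree_eq K z).1 hz).symm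
      rw [h2]
      exact hmaxx _ hz'
    have h3 : IntermediateField.adjoin K ({x} : Set κ) ≤ M :=
      IntermediateField.adjoin.mono K _ _ (by simp)
    rw [IntermediateField.eq_of_le_of_finrank_le h3 h1]
    exact IntermediateField.subset_adjoin K _ (by simp)
  haveI := IntermediateField.adjoin.finiteDimensional hx
  exact Module.Finite.of_injective (IntermediateField.inclusion hle).toLinearMap
    (IntermediateField.inclusion hle).injective

end Groth.Agent.MilnorFib6
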