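import Groth.Agent.Lib.MilnorFib6.AlgClosure
import Groth.Agent.Lib.KrullAkizuki.DVR
import Mathlib

/-! # Noetherianity of algebraic Milnor fibres -/

set_option autoImplicit false
universe u

open IsLocalRing
open scoped TensorProduct

namespace Groth.Agent.MilnorFib6

/-- If `K₀` is algebraically closed in `κ`, then `κ ⊗ F` maps injectively to any field receiving both,
for `F / K₀` finite separable. -/
theorem injective_tensor_finite (K₀ F κ Ω : Type u) [Field K₀] [Field F] [Field κ] [Field Ω]
    [Algebra K₀ F] [Algebra K₀ κ] [Algebra K₀ Ω] [FiniteDimensional K₀ F] [Algebra.IsSeparable K₀ F]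
    (hcl : ∀ x : κ, IsIntegral K₀ x → x ∈ (algebraMap K₀ κ).range)
    (jF : F →ₐ[K₀] Ω) (jκ : κ →ₐ[K₀] Ω) :
    Function.Injective (Algebra.TensorProduct.productMap jκ jF) := by
  classical
  letI : Algebra κ Ω := jκ.toRingHom.toAlgebra
  haveI : IsScalarTower K₀ κ Ω := IsScalarTower.of_algebraMap_eq fun c => (jκ.commutes c).symm
  let pb := Field.powerBasisOfFiniteOfSeparable K₀ F
  let θ' : Ω := jF pb.gen
  have hθ : IsIntegral K₀ pb.gen := pb.isIntegral_gen
  have hθ' : IsIntegral κ θ' := (hθ.map jF).tower_top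
  let g := minpoly κ θ'
  have hdvd : g ∣ (minpoly K₀ pb.gen).map (algebraMap K₀ κ) := by
    refine minpoly.dvd κ θ' ?_
    rw [Polynomial.aeval_map_algebraMap, Polynomial.aeval_algHom_apply, minpoly.aeval, map_zero]
  have hlift : g ∈ Polynomial.lifts (algebraMap K₀ κ) := by
    rw [Polynomial.lifts_iff_coeff_lifts]
    intro i
    obtain ⟨y, hy⟩ := (Polynomial.lifts_iff_coeff_lifts _).1
      (integralClosure.mem_lifts_of_monic_of_dvd_map κ (minpoly.monic hθ) (minpoly.monic hθ') hdvd) i
    exact hcl _ (hy ▸ y.2)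
  obtain ⟨g₀, hg₀⟩ := (Polynomial.mem_lifts _).1 hlift
  have hg₀θ : Polynomial.aeval pb.gen g₀ = 0 := jF.toRingHom.injective (by
    rw [map_zero]
    show jF (Polynomial.aeval pb.gen g₀) = 0
    rw [← Polynomial.aeval_algHom_apply, ← Polynomial.aeval_map_algebraMap κ, hg₀]
    exact minpoly.aeval κ θ')
  have hg₀ne : g₀ ≠ 0 := fun h => (minpoly.ne_zero hθ') (by
    show g = 0
    rw [← hg₀, h, Polynomial.map_zero])
  have hdim : pb.dim ≤ g.natDegree := by
    rw [← pb.natDegree_minpoly, ← hg₀, Polynomial.natDegree_map]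
    exact Polynomial.natDegree_le_of_dvd (minpoly.dvd K₀ _ hg₀θ) hg₀ne
  let b : Module.Basis (Fin pb.dim) κ (κ ⊗[K₀] F) := Algebra.TensorProduct.basis κ pb.basis
  let χ : κ ⊗[K₀] F →ₐ[κ] Ω :=
    Algebra.TensorProduct.lift (Algebra.ofId κ Ω) jF fun _ _ => Commute.all _ _
  have hχ : ∀ z, Algebra.TensorProduct.productMap jκ jF z = χ z := by
    intro z
    induction z using TensorProduct.induction_on with
    | zero => rw [map_zero, map_zero]
    | add u v hu hv => rw [map_add, map_add, hu, hv]
    | tmul c x => rw [Algebra.TensorProduct.productMap_apply_tmul, Algebra.TensorProduct.lift_tmul]; rfl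
  have hli : LinearIndependent κ fun i => χ.toLinearMap (b i) := by
    have h1 : (fun i => χ.toLinearMap (b i)) = (fun i : Fin pb.dim => θ' ^ (i : ℕ)) := by
      funext i
      show χ (b i) = θ' ^ (i : ℕ)
      rw [Algebra.TensorProduct.basis_apply, Algebra.TensorProduct.lift_tmul, map_one, one_mul, pb.basis_eq_pow,
        map_pow]
    rw [h1]
    exact (linearIndependent_pow θ').comp (Fin.castLE hdim) (Fin.castLE_injective hdim)
  have hinj : Function.Injective χ := by
    refine (injective_iff_map_eq_zero χ).2 fun z hz => ?_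
    have h2 : z = ∑ i, b.repr z i • b i := (b.sum_repr z).symm
    have h3 : ∑ i, b.repr z i • χ.toLinearMap (b i) = 0 := by
      have := congrArg χ.toLinearMap h2
      rw [map_sum] at this
      simp only [map_smul] at this
      rw [← this]
      exact hz
    rw [h2, Finset.sum_eq_zero fun i _ => by rw [Fintype.linearIndependent_iff.1 hli _ h3 i, zero_smul]]
  intro x y h
  rw [hχ, hχ] at h
  exact hinj h

theorem injective_tensor_algebraic (K₀ L κ Ω : Type u) [Field K₀] [Field L] [Field κ] [Field Ω]
    [Algebra K₀ L] [Algebra K₀ κ] [Algebra K₀ Ω] [Algebra.IsAlgebraic K₀ L] [CharZero K₀]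
    (hcl : ∀ x : κ, IsIntegral K₀ x → x ∈ (algebraMap K₀ κ).range)
    (jL : L →ₐ[K₀] Ω) (jκ : κ →ₐ[K₀] Ω) :
    Function.Injective (Algebra.TensorProduct.productMap jL jκ) := by
  classical
  have key : ∀ z : L ⊗[K₀] κ, ∃ s : Finset L, ∃ w : κ ⊗[K₀] (IntermediateField.adjoin K₀ (s : Set L)),
      z = Algebra.TensorProduct.comm K₀ κ L (Algebra.TensorProduct.map (AlgHom.id K₀ κ)
        (IntermediateField.adjoin K₀ (s : Set L)).val w) := by
    intro z
    induction z using TensorProduct.induction_on with
    | zero => exact ⟨∅, 0, by simp⟩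
    | tmul l c =>
      exact ⟨{l}, c ⊗ₜ ⟨l, IntermediateField.subset_adjoin K₀ _ (by simp)⟩, by simp⟩
    | add u v hu hv =>
      obtain ⟨s, u', rfl⟩ := hu
      obtain ⟨t, v', rfl⟩ := hv
      have hs : IntermediateField.adjoin K₀ (s : Set L) ≤ IntermediateField.adjoin K₀ ((s ∪ t : Finset L) : Set L) :=
        IntermediateField.adjoin.mono K₀ _ _ (by simp)
      have ht : IntermediateField.adjoin K₀ (t : Set L) ≤ IntermediateField.adjoin K₀ ((s ∪ t : Finset L) : Set L) :=
        IntermediateField.adjoin.mono K₀ _ _ (by simp)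
      refine ⟨s ∪ t, Algebra.TensorProduct.map (AlgHom.id K₀ κ) (IntermediateField.inclusion hs) u' +
        Algebra.TensorProduct.map (AlgHom.id K₀ κ) (IntermediateField.inclusion ht) v', ?_⟩
      have hc : ∀ (F F' : IntermediateField K₀ L) (h : F ≤ F') (w : κ ⊗[K₀] F),
          Algebra.TensorProduct.map (AlgHom.id K₀ κ) F'.val
            (Algebra.TensorProduct.map (AlgHom.id K₀ κ) (IntermediateField.inclusion h) w) =
          Algebra.TensorProduct.map (AlgHom.id K₀ κ) F.val w := by
        intro F F' h w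
        induction w using TensorProduct.induction_on with
        | zero => simp
        | add a b ha hb => simp only [map_add, ha, hb]
        | tmul a b => rfl
      rw [map_add, map_add, hc _ _ hs, hc _ _ ht]
  refine (injective_iff_map_eq_zero _).2 fun z hz => ?_
  obtain ⟨s, w, rfl⟩ := key z
  haveI : FiniteDimensional K₀ (IntermediateField.adjoin K₀ (s : Set L)) :=
    IntermediateField.finiteDimensional_adjoin fun x _ => (Algebra.IsAlgebraic.isAlgebraic x).isIntegral
  have h1 : ∀ w, Algebra.TensorProduct.productMap jL jκ (Algebra.TensorProduct.comm K₀ κ L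
      (Algebra.TensorProduct.map (AlgHom.id K₀ κ) (IntermediateField.adjoin K₀ (s : Set L)).val w)) =
      Algebra.TensorProduct.productMap jκ (jL.comp (IntermediateField.adjoin K₀ (s : Set L)).val) w := by
    intro w
    induction w using TensorProduct.induction_on with
    | zero => simp
    | add a b ha hb => simp only [map_add, ha, hb]
    | tmul a b =>
      rw [Algebra.TensorProduct.map_tmul, Algebra.TensorProduct.comm_tmul,
        Algebra.TensorProduct.productMap_apply_tmul, Algebra.TensorProduct.productMap_apply_tmul, mul_comm]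
      rfl
  rw [h1] at hz
  rw [(injective_iff_map_eq_zero _).1 (injective_tensor_finite K₀ _ κ Ω hcl _ jκ) w hz, map_zero, map_zero]

set_option maxHeartbeats 2000000 in
set_option synthInstance.maxHeartbeats 200000 in
/-- The algebraic generic fibre of a Noetherian local algebra over a henselian DVR with algebraically
closed residue field is Noetherian. -/
theorem isNoetherianRing_tensor_algClosure (V : Type u) [CommRing V] [IsDomain V] [IsDiscreteValuationRing V]
    [HenselianLocalRing V] [IsAlgClosed (ResidueField V)] [CharZero V]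
    (L : Type u) [Field L] [IsAlgClosed L] [Algebra V L] [FaithfulSMul V L] [Algebra.IsAlgebraic V L]
    (B : Type u) [CommRing B] [IsLocalRing B] [IsNoetherianRing B] [Algebra V B]
    (hB : ∀ v ∈ maximalIdeal V, algebraMap V B v ∈ maximalIdeal B) :
    IsNoetherianRing (L ⊗[V] B) := by
  classical
  refine IsNoetherianRing.of_prime fun P hP => ?_
  let K := FractionRing V
  have hVL : Function.Injective (algebraMap V L) := FaithfulSMul.algebraMap_injective V L
  letI : Algebra K L := (IsFractionRing.lift hVL : K →+* L).toAlgebra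
  haveI : IsScalarTower V K L := IsScalarTower.of_algebraMap_eq fun a => (IsFractionRing.lift_algebraMap hVL a).symm
  haveI : CharZero K := charZero_of_injective_algebraMap (IsFractionRing.injective V K)
  haveI : Algebra.IsAlgebraic K L := Algebra.IsAlgebraic.extendScalars (R := V) (IsFractionRing.injective V K)
  let inB : B →ₐ[V] L ⊗[V] B := Algebra.TensorProduct.includeRight
  let inL : L →ₐ[V] L ⊗[V] B := Algebra.TensorProduct.includeLeft
  let p : Ideal B := P.comap inB
  haveI : p.IsPrime := hP.comap _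
  obtain ⟨π, hπ⟩ := IsDiscreteValuationRing.exists_irreducible V
  have hπm : π ∈ maximalIdeal V := by rw [mem_maximalIdeal]; exact hπ.not_isUnit
  have hπp : algebraMap V B π ∉ p := fun h => by
    change inB (algebraMap V B π) ∈ P at h
    rw [AlgHom.commutes, ← inL.commutes] at h
    have hu : IsUnit (algebraMap V L π) := (map_ne_zero_iff _ hVL).2 hπ.ne_zero |>.isUnit
    exact hP.ne_top (Ideal.eq_top_of_isUnit_mem _ h (hu.map inL))
  let D := B ⧸ p
  haveI : IsLocalRing D := IsLocalRing.of_surjective' (Ideal.Quotient.mk p) Ideal.Quotient.mk_surjective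
  let κ := FractionRing D
  have hVD : Function.Injective (algebraMap V D) := by
    refine (injective_iff_map_eq_zero _).2 fun a ha => ?_
    by_contra ha0
    obtain ⟨n, w, rfl⟩ := IsDiscreteValuationRing.eq_unit_mul_pow_irreducible ha0 hπ
    rw [map_mul, map_pow, (w.isUnit.map _).mul_right_eq_zero] at ha
    have h0 : algebraMap V D π = 0 := eq_zero_of_pow_eq_zero ha
    exact hπp (Ideal.Quotient.eq_zero_iff_mem.1 h0)
  have hDnf : ¬ IsField D := fun h => by
    have h0 : algebraMap V D π ≠ 0 := (map_ne_zero_iff _ hVD).2 hπ.ne_zero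
    obtain ⟨c, hc⟩ := h.mul_inv_cancel h0
    obtain ⟨c, rfl⟩ := Ideal.Quotient.mk_surjective c
    have h1 : algebraMap V B π * c - 1 ∈ p := (Ideal.Quotient.mk_eq_mk_iff_sub_mem _ _).1 hc
    have h2 : IsUnit (algebraMap V B π * c) := by
      by_contra hnu
      have h3 : algebraMap V B π * c - 1 ∈ maximalIdeal B := le_maximalIdeal (Ideal.IsPrime.ne_top ‹_›) h1
      have h4 := sub_mem (show algebraMap V B π * c ∈ maximalIdeal B from hnu) h3
      rw [sub_sub_cancel] at h4
      exact (maximalIdeal.isMaximal B).ne_top ((Ideal.eq_top_iff_one _).2 h4)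
    exact (mem_maximalIdeal _).1 (hB π hπm) (isUnit_of_mul_isUnit_left h2)
  have hVκ : Function.Injective (algebraMap V κ) := by
    rw [IsScalarTower.algebraMap_eq V D κ]
    exact (IsFractionRing.injective D κ).comp hVD
  letI : Algebra K κ := (IsFractionRing.lift hVκ : K →+* κ).toAlgebra
  haveI : IsScalarTower V K κ := IsScalarTower.of_algebraMap_eq fun a => (IsFractionRing.lift_algebraMap hVκ a).symm
  obtain ⟨O, hO, hDO, hdom⟩ := KrullAkizuki.exists_dvr_dominating D hDnf κ κ
  haveI := hO
  haveI hfd : FiniteDimensional K (algebraicClosure K κ) :=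
    finiteDimensional_algebraicClosure V κ O
      (fun v => by rw [IsScalarTower.algebraMap_apply V D κ]; exact hDO _)
      fun v hv => by
        rw [IsScalarTower.algebraMap_apply V D κ]
        refine hdom _ ?_
        rw [IsScalarTower.algebraMap_apply V B D]
        rw [mem_maximalIdeal, mem_nonunits_iff]
        intro hu
        obtain ⟨c, hc⟩ := hu.exists_right_inv
        obtain ⟨c, rfl⟩ := Ideal.Quotient.mk_surjective c
        have h1 : algebraMap V B v * c - 1 ∈ p := (Ideal.Quotient.mk_eq_mk_iff_sub_mem _ _).1 hc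
        have h3 : algebraMap V B v * c - 1 ∈ maximalIdeal B := le_maximalIdeal (Ideal.IsPrime.ne_top ‹_›) h1
        have h4 := sub_mem (Ideal.mul_mem_right c _ (hB v hv)) h3
        rw [sub_sub_cancel] at h4
        exact (maximalIdeal.isMaximal B).ne_top ((Ideal.eq_top_iff_one _).2 h4)
  -- the residue field of `P`
  obtain ⟨Ω, _, _, mP, hmP⟩ : ∃ (Ω : Type u) (_ : Field Ω) (_ : Algebra V Ω) (mP : L ⊗[V] B →ₐ[V] Ω),
      ∀ x, mP x = 0 ↔ x ∈ P := by
    refine ⟨FractionRing ((L ⊗[V] B) ⧸ P), inferInstance, inferInstance,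
      (IsScalarTower.toAlgHom V ((L ⊗[V] B) ⧸ P) _).comp (Ideal.Quotient.mkₐ V P), fun x => ?_⟩
    show algebraMap ((L ⊗[V] B) ⧸ P) (FractionRing ((L ⊗[V] B) ⧸ P)) (Ideal.Quotient.mk P x) = 0 ↔ _
    rw [map_eq_zero_iff _ (IsFractionRing.injective _ _), Ideal.Quotient.eq_zero_iff_mem]
  let jD : D →+* Ω := Ideal.Quotient.lift p (mP.comp inB).toRingHom fun b hb => (hmP _).2 hb
  have hjD : Function.Injective jD := by
    refine (injective_iff_map_eq_zero jD).2 fun d hd => ?_
    obtain ⟨b, rfl⟩ := Ideal.Quotient.mk_surjective d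
    exact Ideal.Quotient.eq_zero_iff_mem.2 ((hmP _).1 hd)
  let jκ₀ : κ →+* Ω := IsFractionRing.lift hjD
  have hjκ₀ : ∀ b : B, jκ₀ (algebraMap D κ (Ideal.Quotient.mk p b)) = mP (inB b) :=
    fun b => IsFractionRing.lift_algebraMap hjD _
  letI : Algebra L Ω := (mP.comp inL).toRingHom.toAlgebra
  letI : Algebra K Ω := ((algebraMap L Ω).comp (algebraMap K L)).toAlgebra
  haveI : IsScalarTower K L Ω := IsScalarTower.of_algebraMap_eq fun _ => rfl
  haveI : IsScalarTower V K Ω := IsScalarTower.of_algebraMap_eq fun a => by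
    show algebraMap V Ω a = mP (inL (algebraMap K L (algebraMap V K a)))
    rw [← IsScalarTower.algebraMap_apply, inL.commutes, mP.commutes]
  let jκ : κ →ₐ[K] Ω :=
    { jκ₀ with
      commutes' := fun x => by
        have h : jκ₀.comp (algebraMap K κ) = algebraMap K Ω := IsLocalization.ringHom_ext (nonZeroDivisors V) (by
          refine RingHom.ext fun a => ?_
          show jκ₀ (algebraMap K κ (algebraMap V K a)) = algebraMap K Ω (algebraMap V K a)
          rw [← IsScalarTower.algebraMap_apply, ← IsScalarTower.algebraMap_apply,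
            IsScalarTower.algebraMap_apply V D κ, IsScalarTower.algebraMap_apply V B D]
          refine (hjκ₀ _).trans ?_
          rw [inB.commutes, mP.commutes])
        exact RingHom.congr_fun h x }
  let K₀ := algebraicClosure K κ
  have hlift : ∀ c : K₀, ∃ l : L, algebraMap L Ω l = jκ c := fun c => by
    have h1 : IsIntegral K (jκ c) := ((mem_algebraicClosure_iff'.1 c.2 : IsIntegral K (c : κ))).map jκ
    have h2 : IsIntegral L (jκ c) := h1.tower_top
    exact minpoly.mem_range_of_degree_eq_one L _
      (IsAlgClosed.degree_eq_one_of_irreducible L (minpoly.irreducible h2))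
  choose σ₀ hσ₀ using hlift
  have hLΩ : Function.Injective (algebraMap L Ω) := (algebraMap L Ω).injective
  let σ : K₀ →ₐ[K] L :=
    { toFun := σ₀
      map_one' := hLΩ (by rw [hσ₀, map_one (algebraMap L Ω)]; exact map_one jκ)
      map_mul' := fun x y => hLΩ (by rw [map_mul, hσ₀, hσ₀, hσ₀]; exact map_mul jκ _ _)
      map_zero' := hLΩ (by rw [hσ₀, map_zero (algebraMap L Ω)]; exact map_zero jκ)
      map_add' := fun x y => hLΩ (by rw [map_add, hσ₀, hσ₀, hσ₀]; exact map_add jκ _ _)
      commutes' := fun a => hLΩ (by rw [hσ₀, ← IsScalarTower.algebraMap_apply]; exact jκ.commutes a) }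
  letI : Algebra K₀ L := σ.toRingHom.toAlgebra
  haveI : IsScalarTower K K₀ L := IsScalarTower.of_algebraMap_eq fun a => (σ.commutes a).symm
  haveI : IsScalarTower V K₀ L := IsScalarTower.of_algebraMap_eq fun a => by
    rw [IsScalarTower.algebraMap_apply V K L, IsScalarTower.algebraMap_apply V K K₀,
      ← IsScalarTower.algebraMap_apply K K₀ L]
  haveI : IsScalarTower V K₀ κ := IsScalarTower.of_algebraMap_eq fun a => by
    rw [IsScalarTower.algebraMap_apply V K κ, IsScalarTower.algebraMap_apply V K K₀,
      ← IsScalarTower.algebraMap_apply K K₀ κ]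
  letI : Algebra K₀ Ω := ((algebraMap L Ω).comp σ.toRingHom).toAlgebra
  -- `R₁ = K₀ ⊗ B` is Noetherian
  haveI : Algebra.EssFiniteType V K := Algebra.EssFiniteType.of_isLocalization K (nonZeroDivisors V)
  haveI : Algebra.EssFiniteType V K₀ := Algebra.EssFiniteType.comp V K K₀
  haveI : IsNoetherianRing (B ⊗[V] K₀) := Algebra.EssFiniteType.isNoetherianRing B (B ⊗[V] K₀)
  haveI : IsNoetherianRing (K₀ ⊗[V] B) :=
    isNoetherianRing_of_ringEquiv (B ⊗[V] K₀) (Algebra.TensorProduct.comm V B K₀).toRingEquiv
  let R₁ := K₀ ⊗[V] B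
  let m₁ : R₁ →ₐ[V] L ⊗[V] B := Algebra.TensorProduct.map (σ.restrictScalars V) (AlgHom.id V B)
  let P₀ : Ideal R₁ := P.comap m₁
  suffices h : P = P₀.map m₁ by
    rw [h]; exact Ideal.FG.map (IsNoetherian.noetherian P₀) _
  refine le_antisymm (fun x hx => ?_) (Ideal.map_le_iff_le_comap.2 le_rfl)
  -- evaluation maps
  let vκ : R₁ →ₐ[K₀] κ := Algebra.TensorProduct.lift (Algebra.ofId K₀ κ)
    ((IsScalarTower.toAlgHom V D κ).comp (Ideal.Quotient.mkₐ V p)) fun _ _ => Commute.all _ _
  let jκ' : κ →ₐ[K₀] Ω :=
    { jκ.toRingHom with commutes' := fun c => (hσ₀ c).symm }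
  let jL' : L →ₐ[K₀] Ω :=
    { algebraMap L Ω with commutes' := fun c => rfl }
  have hv : ∀ r, jκ' (vκ r) = mP (m₁ r) := by
    intro r
    induction r using TensorProduct.induction_on with
    | zero => simp
    | add u v hu hv => simp only [map_add, hu, hv]
    | tmul c b =>
      rw [Algebra.TensorProduct.lift_tmul, map_mul, Algebra.TensorProduct.map_tmul]
      show jκ (c : κ) * jκ₀ (algebraMap D κ (Ideal.Quotient.mk p b)) = mP (σ c ⊗ₜ b)
      rw [← hσ₀, hjκ₀]
      show mP (inL (σ c)) * mP (inB b) = _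
      rw [← map_mul]
      show mP (σ c ⊗ₜ[V] (1 : B) * (1 : L) ⊗ₜ[V] b) = _
      rw [Algebra.TensorProduct.tmul_mul_tmul, mul_one, one_mul]
  have hker : RingHom.ker vκ.toRingHom = P₀ := by
    ext r
    show vκ r = 0 ↔ m₁ r ∈ P
    rw [← hmP, ← hv, map_eq_zero_iff jκ' jκ'.toRingHom.injective]
  have hcl : ∀ z : κ, IsIntegral K₀ z → z ∈ (algebraMap K₀ κ).range := fun z hz => by
    haveI : Algebra.IsIntegral K K₀ := Algebra.IsIntegral.of_finite K K₀
    exact ⟨⟨z, mem_algebraicClosure_iff'.2 (isIntegral_trans z hz)⟩, rfl⟩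
  haveI : Algebra.IsAlgebraic K₀ L := Algebra.IsAlgebraic.tower_top (K := K) K₀
  haveI : CharZero K₀ := charZero_of_injective_algebraMap (algebraMap K K₀).injective
  -- `L ⊗_{K₀} R₁ = L ⊗_V B`
  let γ := Algebra.TensorProduct.cancelBaseChange V K₀ L L B
  let Φ : L ⊗[K₀] R₁ →ₐ[K₀] L ⊗[K₀] κ := Algebra.TensorProduct.map (AlgHom.id K₀ L) vκ
  have hγ : ∀ z, mP (γ z) = Algebra.TensorProduct.productMap jL' jκ' (Φ z) := by
    intro z
    induction z using TensorProduct.induction_on with
    | zero => simp
    | add u v hu hv => simp only [map_add, hu, hv]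
    | tmul l r =>
      rw [Algebra.TensorProduct.map_tmul, Algebra.TensorProduct.productMap_apply_tmul, hv]
      have h1 : γ (l ⊗ₜ r) = inL l * m₁ r := by
        induction r using TensorProduct.induction_on with
        | zero => simp
        | add u v hu hv => rw [TensorProduct.tmul_add, map_add, hu, hv, map_add, mul_add]
        | tmul c b =>
          rw [Algebra.TensorProduct.cancelBaseChange_tmul, Algebra.TensorProduct.map_tmul]
          show _ = l ⊗ₜ[V] (1 : B) * σ c ⊗ₜ[V] b
          rw [Algebra.TensorProduct.tmul_mul_tmul, one_mul, Algebra.smul_def, mul_comm]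
          rfl
      rw [h1, map_mul]
      rfl
  obtain ⟨z, rfl⟩ := γ.surjective x
  have hz : Φ z = 0 := by
    apply injective_tensor_algebraic K₀ L κ Ω hcl jL' jκ'
    rw [map_zero, ← hγ]
    exact (hmP _).2 hx
  have hz' : z ∈ Ideal.map (Algebra.TensorProduct.includeRight : R₁ →ₐ[K₀] L ⊗[K₀] R₁) P₀ := by
    rw [← hker]
    have hsurj : Function.Surjective (vκ.rangeRestrict) := vκ.rangeRestrict_surjective
    have h1 : RingHom.ker (Algebra.TensorProduct.map (AlgHom.id K₀ L) vκ.rangeRestrict) =
        (RingHom.ker vκ.rangeRestrict).map (Algebra.TensorProduct.includeRight : R₁ →ₐ[K₀] L ⊗[K₀] R₁) :=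
      Algebra.TensorProduct.lTensor_ker _ hsurj
    have h2 : RingHom.ker vκ.rangeRestrict = RingHom.ker vκ.toRingHom := by
      ext r; exact ⟨fun h => congrArg Subtype.val h, fun h => Subtype.ext h⟩
    rw [← h2, ← h1, RingHom.mem_ker]
    have h3 : Function.Injective (LinearMap.lTensor L vκ.range.val.toLinearMap) :=
      Module.Flat.lTensor_preserves_injective_linearMap _ Subtype.val_injective
    apply h3
    rw [map_zero, ← hz]
    clear hz hγ hx
    induction z using TensorProduct.induction_on with
    | zero => simp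
    | add u v hu hv => simp only [map_add, hu, hv]
    | tmul l r => rfl
  have h4 : Ideal.map (Algebra.TensorProduct.includeRight : R₁ →ₐ[K₀] L ⊗[K₀] R₁) P₀ ≤
      (P₀.map m₁).comap γ.toRingEquiv.toRingHom := by
    refine Ideal.map_le_iff_le_comap.2 fun r hr => ?_
    show γ ((1 : L) ⊗ₜ r) ∈ P₀.map m₁
    have h5 : γ ((1 : L) ⊗ₜ r) = m₁ r := by
      clear hr
      induction r using TensorProduct.induction_on with
      | zero => simp
      | add u v hu hv => rw [TensorProduct.tmul_add, map_add, hu, hv, map_add]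
      | tmul c b =>
        rw [Algebra.TensorProduct.cancelBaseChange_tmul, Algebra.TensorProduct.map_tmul, Algebra.smul_def, mul_one]
        rfl
    rw [h5]
    exact Ideal.mem_map_of_mem m₁ hr
  exact h4 hz'

theorem finite_connectedComponents (X : Type*) [TopologicalSpace X] [TopologicalSpace.NoetherianSpace X] :
    Finite (ConnectedComponents X) := by
  haveI := (TopologicalSpace.NoetherianSpace.finite_irreducibleComponents (α := X)).to_subtype
  refine Finite.of_surjective (fun Z : irreducibleComponents X =>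
    (Z.2.1.nonempty.some : ConnectedComponents X)) fun c => ?_
  obtain ⟨x, rfl⟩ := ConnectedComponents.surjective_coe c
  refine ⟨⟨irreducibleComponent x, irreducibleComponent_mem_irreducibleComponents x⟩, ?_⟩
  rw [ConnectedComponents.coe_eq_coe']
  have h1 : IsPreconnected (irreducibleComponent x) := isIrreducible_irreducibleComponent.2.isPreconnected
  exact h1.subset_connectedComponent mem_irreducibleComponent
    (isIrreducible_irreducibleComponent.nonempty.some_mem)

end Groth.Agent.MilnorFib6
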